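import Groth.Agent.FGA.K721.IdealVan1
import Groth.Agent.Biell.K440.PicLift
import Groth.Agent.Pic13.H965.RelGrp
import Groth.Agent.AbVar.K527.FibreVan
import Groth.Agent.PerfB.StructFlat
import Groth.Agent.Picfga.HilbPull
import Groth.Agent.Ega3B.PullTensor
import Groth.Agent.Fga.UnitRestrict
import Groth.Agent.S0002
import Groth.Agent.S2329
import Groth.Agent.S1025
import Groth.Agent.S1417
import Groth.Agent.S5075
import Groth.Agent.S0115

/-!
# Smoothness of the Picard scheme near a point with `H^2(X_s, O) = 0`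
-/

set_option autoImplicit false
universe u

open CategoryTheory CategoryTheory.Limits AlgebraicGeometry Opposite
open Groth.Agent.Ega3A.PicDiv Groth.Agent.Ega3A.PicEtSh Groth.Agent.Grpsch.PicGrp
open Groth.Agent.Ega3A.PicSheaf Groth.Agent.Ega3A.PicLocBase Groth.Agent.Fga.RigGrp
open Groth.Agent.Pic13.H965 Groth.Agent

namespace K721.PicSmoothH2

section Small

variable {B B' : Type u} [CommRing B] [CommRing B'] [IsLocalRing B] [IsLocalRing B'] (φ : B' →+* B) (ε : B')

/-- Classes lift along small extensions of the base when `H^2` of the closed fibre vanishes. -/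
theorem pull_surjective (hφ : Function.Surjective φ) (hker : RingHom.ker φ = Ideal.span {ε})
    (hε : ∀ m ∈ IsLocalRing.maximalIdeal B', ε * m = 0)
    {X X₀ : Scheme.{u}} {f : X ⟶ Spec (CommRingCat.of B')} [IsProper f] [Flat f] {j : X₀ ⟶ X}
    {f₀ : X₀ ⟶ Spec (CommRingCat.of B)} (H : IsPullback j f₀ f (Spec.map (CommRingCat.ofHom φ)))
    (h : Subsingleton (Coh.HH (pullback f (Spec.map (CommRingCat.ofHom (IsLocalRing.residue B'))))
      (Coh.structureModule _) 2)) :
    Function.Surjective (pull j : Pic X → Pic X₀) := by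
  have hi : IsClosedImmersion (Spec.map (CommRingCat.ofHom φ)) := IsClosedImmersion.spec_of_surjective _ hφ
  have hj : IsClosedImmersion j := MorphismProperty.of_isPullback H.flip hi
  have hεm : ε ∈ IsLocalRing.maximalIdeal B' := by
    by_contra hu
    rw [IsLocalRing.mem_maximalIdeal, mem_nonunits_iff, not_not] at hu
    have h1 : (1 : B') ∈ RingHom.ker φ := by
      rw [hker, Ideal.span_singleton_eq_top.mpr hu]
      trivial
    rw [RingHom.mem_ker, map_one] at h1
    exact one_ne_zero h1
  let e : Γ(Spec (CommRingCat.of B'), ⊤) := (Scheme.ΓSpecIso (CommRingCat.of B')).inv ε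
  have hkid : (Spec.map (CommRingCat.ofHom φ)).ker.ideal ⟨⊤, isAffineOpen_top _⟩ = Ideal.span {e} := by
    refine (K695.ClFib.ker_specMap_ideal φ).trans ?_
    rw [hker, Ideal.map_span, Set.image_singleton]
  have hsq : ((Spec.map (CommRingCat.ofHom φ)).ker.ideal ⟨⊤, isAffineOpen_top _⟩) ^ 2 = ⊥ := by
    rw [hkid, Ideal.span_singleton_pow, pow_two, ← map_mul, hε ε hεm, map_zero]
    exact Ideal.span_singleton_eq_bot.mpr rfl
  refine K440.PicLift.pull_surjective_of_H2 j (K440.PicLift.ker_sq H hsq) ?_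
  by_cases h0 : ε = 0
  · refine IdealVan1.subsingleton_HH_of_subsingleton f 1 ⊥ j.ker fun U => ?_
    rw [K440.PicLift.ker_ideal H U, hkid]
    congr 1
    refine Ideal.span_singleton_eq_bot.mpr ?_
    change (Scheme.ΓSpecIso (CommRingCat.of B')).inv ε = 0
    rw [h0, map_zero]
  · refine IdealVan1.subsingleton_HH_of_point f
      (IsPullback.of_hasPullback f (Spec.map (CommRingCat.ofHom (IsLocalRing.residue B')))) ?_ e ?_ 1 h j.ker
      (fun U => ?_)
    · have h1 := Scheme.ΓSpecIso_inv_naturality (CommRingCat.ofHom (IsLocalRing.residue B'))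
      intro y
      obtain ⟨b, hb⟩ := IsLocalRing.residue_surjective ((Scheme.ΓSpecIso _).hom y)
      refine ⟨(Scheme.ΓSpecIso (CommRingCat.of B')).inv b, ?_⟩
      have h2 := congr(($h1) b)
      refine h2.symm.trans ?_
      change (Scheme.ΓSpecIso _).inv (IsLocalRing.residue B' b) = y
      rw [hb]
      exact congr(($((Scheme.ΓSpecIso (CommRingCat.of (IsLocalRing.ResidueField B'))).hom_inv_id)) y)
    · intro a
      obtain ⟨b, rfl⟩ : ∃ b : B', (Scheme.ΓSpecIso (CommRingCat.of B')).inv b = a :=
        ⟨(Scheme.ΓSpecIso (CommRingCat.of B')).hom a,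
          congr(($((Scheme.ΓSpecIso (CommRingCat.of B')).hom_inv_id)) a)⟩
      have h1 := Scheme.ΓSpecIso_inv_naturality (CommRingCat.ofHom (IsLocalRing.residue B'))
      have h2 : (Scheme.ΓSpecIso (CommRingCat.of (IsLocalRing.ResidueField B'))).inv (IsLocalRing.residue B' b) =
          (Spec.map (CommRingCat.ofHom (IsLocalRing.residue B'))).appTop
            ((Scheme.ΓSpecIso (CommRingCat.of B')).inv b) := congr(($h1) b)
      rw [← h2]
      have hinj : ∀ {R : Type u} [CommRing R] (x : R), (Scheme.ΓSpecIso (CommRingCat.of R)).inv x = 0 ↔ x = 0 := by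
        intro R _ x
        refine ⟨fun hx => ?_, fun hx => by rw [hx, map_zero]⟩
        have h3 := congr(($((Scheme.ΓSpecIso (CommRingCat.of R)).inv_hom_id)) x)
        refine h3.symm.trans ?_
        change (Scheme.ΓSpecIso (CommRingCat.of R)).hom ((Scheme.ΓSpecIso (CommRingCat.of R)).inv x) = 0
        rw [hx, map_zero]
      rw [hinj, ← map_mul, hinj, IsLocalRing.residue_eq_zero_iff]
      constructor
      · intro hb
        rw [mul_comm]
        exact hε b hb
      · intro hb
        by_contra hu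
        rw [IsLocalRing.mem_maximalIdeal, mem_nonunits_iff, not_not] at hu
        exact h0 ((hu.mul_right_eq_zero).mp hb)
    · rw [K440.PicLift.ker_ideal H U, hkid]

end Small

/-- The vanishing of `H^2` of the fibres is an open condition. -/
theorem exists_nbhd {X S : Scheme.{u}} (f : X ⟶ S) [IsProper f] [Flat f] [LocallyOfFinitePresentation f] (s : S)
    (h2 : Subsingleton (Coh.HH (pullback f (S.fromSpecResidueField s)) (Coh.structureModule _) 2)) :
    ∃ U : S.Opens, s ∈ U ∧ ∀ (K : Type u) [Field K] (t : Spec (CommRingCat.of K) ⟶ S),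
      t (IsLocalRing.closedPoint K) ∈ U →
      ∀ {XK : Scheme.{u}} {g : XK ⟶ X} {q : XK ⟶ Spec (CommRingCat.of K)}, IsPullback g q f t →
        Subsingleton (Coh.HH XK (Coh.structureModule _) 2) := by
  have hinv : PicF.IsInvertible (Coh.structureModule X) := fun _ =>
    ⟨⊤, trivial, ⟨(Scheme.Modules.restrictFunctorIsoPullback (⊤ : X.Opens).ι).app _ ≪≫
      Fga.UnitRestrict.pullbackUnitIso (⊤ : X.Opens).ι⟩⟩
  have hFP : CohB1.IsFP (Coh.structureModule X) := PerfB.StructFlat.isFP_structure
  refine ⟨⟨{y | PerfAux.betti f (Coh.structureModule X) y 2 < 1},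
    Groth.Agent.S1025.result f _ hFP (PerfB.StructFlat.isFlatOver_structure f) 2 1⟩, ?_, ?_⟩
  · have h3 : Subsingleton (PerfAux.fiberH f (Coh.structureModule X) s 2) :=
      Ega3B.AcycNbhd.subsingleton_HH_of_iso
        (Ega3B.PullTensor.nonempty_pullUnitIso (f.fiberι s)).some.symm 2 h2
    change Module.finrank _ _ < 1
    rw [Module.finrank_zero_of_subsingleton]
    exact Nat.one_pos
  · intro K _ t ht XK g q H
    have h3 : Module.Finite (S.residueField (t (IsLocalRing.closedPoint K)))
        (PerfAux.fiberH f (Coh.structureModule X) (t (IsLocalRing.closedPoint K)) 2) := by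
      let _ : (f.fiber (t (IsLocalRing.closedPoint K))).Over
          (Spec (CommRingCat.of (S.residueField (t (IsLocalRing.closedPoint K))))) :=
        ⟨f.fiberToSpecResidueField _⟩
      have hp : IsProper (f.fiber (t (IsLocalRing.closedPoint K)) ↘
          Spec (CommRingCat.of (S.residueField (t (IsLocalRing.closedPoint K))))) := by
        change IsProper (pullback.snd f (S.fromSpecResidueField _))
        infer_instance
      exact Groth.Agent.S0002.result (S.residueField (t (IsLocalRing.closedPoint K))) (f.fiber _) _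
        (Groth.Agent.S2329.isCoh_of_isInvertible (Fdesc.LocGen.isInvertible_pullback (f.fiberι _) hinv)) 2
    have h4 : Module.finrank (S.residueField (t (IsLocalRing.closedPoint K)))
        (PerfAux.fiberH f (Coh.structureModule X) (t (IsLocalRing.closedPoint K)) 2) = 0 :=
      Nat.lt_one_iff.mp ht
    have h5 : Subsingleton (PerfAux.fiberH f (Coh.structureModule X) (t (IsLocalRing.closedPoint K)) 2) :=
      Module.finrank_zero_iff.mp h4
    have h6 := (K527.FibreVan.fiberH_iff f _ (Fdesc.StructMod.isQCoh_structureModule X) t g q H 1).mp h5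
    exact Ega3B.AcycNbhd.subsingleton_HH_of_iso (Ega3B.PullTensor.nonempty_pullUnitIso g).some 2 h6

/-- **Smoothness of the Picard scheme** over an open subset over which `H^2` of the fibres vanishes. -/
theorem smooth_over {X S : Scheme.{u}} [IsLocallyNoetherian S] (f : X ⟶ S) [IsProper f] [Flat f] (P : Over S)
    [LocallyOfFiniteType P.hom] {φ : ∀ T : Over S, PicF.Cl (PicF.XT f T) → (T ⟶ P)}
    (hφ : PicRel.IsRelPic f P φ) (U : S.Opens)
    (hU : ∀ (K : Type u) [Field K] (t : Spec (CommRingCat.of K) ⟶ S), t (IsLocalRing.closedPoint K) ∈ U →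
      ∀ {XK : Scheme.{u}} {g : XK ⟶ X} {q : XK ⟶ Spec (CommRingCat.of K)}, IsPullback g q f t →
        Subsingleton (Coh.HH XK (Coh.structureModule _) 2)) :
    Smooth ((P.hom ⁻¹ᵁ U).ι ≫ P.hom) := by
  obtain ⟨𝒰, c, hc⟩ := RelGrp.exists_cm hφ (𝟙 P)
  let W : P.left.Opens := P.hom ⁻¹ᵁ U
  let Z : ∀ i, (𝒰.V i).left.Opens := fun i => (𝒰.j i).left ⁻¹ᵁ W
  let r : ∀ i, ((Z i : Scheme.{u}) ⟶ (W : Scheme.{u})) := fun i => (𝒰.j i).left ∣_ W
  have hr : ∀ i, r i ≫ W.ι = (Z i).ι ≫ (𝒰.j i).left := fun i => morphismRestrict_ι _ _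
  have hre : ∀ i, Etale (r i) := fun i => inferInstance
  -- smoothness of the charts
  have hZ : ∀ i, Smooth (r i ≫ W.ι ≫ P.hom) := by
    intro i
    rw [Groth.Agent.S1417.result]
    intro B B' _ _ _ _ _ _ ψ ε hψ hker hε α β hβ hsq
    let T' : Over S := Over.mk β
    let T : Over S := Over.mk (Spec.map (CommRingCat.ofHom ψ) ≫ β)
    let h : T ⟶ T' := Over.homMk (Spec.map (CommRingCat.ofHom ψ)) rfl
    have hk1 : (α ≫ (Z i).ι) ≫ (𝒰.V i).hom = T.hom := by
      change _ = Spec.map (CommRingCat.ofHom ψ) ≫ β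
      rw [hsq, ← Over.w (𝒰.j i), Category.assoc, ← reassoc_of% (hr i)]
    let k : T ⟶ 𝒰.V i := Over.homMk (α ≫ (Z i).ι) hk1
    have hps : Function.Surjective (pu f h) := by
      have H := Groth.Agent.Picfga.HilbPull.isPullback_XTmap f h
      have H0 : IsPullback (pullback.fst f T'.hom) (PicF.XTproj f T') f T'.hom :=
        IsPullback.of_hasPullback f T'.hom
      have h1 : IsProper (PicF.XTproj f T') := MorphismProperty.of_isPullback H0 inferInstance
      have h2 : Flat (PicF.XTproj f T') := MorphismProperty.of_isPullback H0 inferInstance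
      refine pull_surjective ψ ε hψ hker hε H ?_
      have H1 := (IsPullback.of_hasPullback (PicF.XTproj f T')
        (Spec.map (CommRingCat.ofHom (IsLocalRing.residue B')))).paste_horiz H0
      refine hU (IsLocalRing.ResidueField B') _ ?_ H1
      -- the point lies over `U`
      have h3 : (Spec.map (CommRingCat.ofHom (IsLocalRing.residue B')) ≫ T'.hom)
          (IsLocalRing.closedPoint (IsLocalRing.ResidueField B')) =
          (α ≫ r i ≫ W.ι ≫ P.hom) (IsLocalRing.closedPoint B) := by
        rw [← hsq, Scheme.Hom.comp_apply, Scheme.Hom.comp_apply]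
        change β _ = β _
        congr 1
        have hloc : IsLocalHom ψ := hψ.isLocalHom ψ
        exact (IsLocalRing.comap_closedPoint (IsLocalRing.residue B')).trans
          (IsLocalRing.comap_closedPoint ψ).symm
      rw [h3]
      have h4 : (α ≫ r i) (IsLocalRing.closedPoint B) ∈ (⊤ : Set W) := trivial
      have h5 : W.ι ((α ≫ r i) (IsLocalRing.closedPoint B)) ∈ W := Subtype.property _
      have h6 : (α ≫ r i ≫ W.ι ≫ P.hom) (IsLocalRing.closedPoint B) =
          P.hom (W.ι ((α ≫ r i) (IsLocalRing.closedPoint B))) := by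
        rw [← Category.assoc, ← Category.assoc, Scheme.Hom.comp_apply, Scheme.Hom.comp_apply]
      rw [h6]
      exact h5
    obtain ⟨η, hη⟩ := hps (pu f k (c i))
    have h1 : h ≫ RelGrp.cm φ η = k ≫ 𝒰.j i := by
      rw [← RelGrp.cm_pu hφ, hη, RelGrp.cm_pu hφ, hc, Category.comp_id]
    have hcl : IsClosedImmersion (Spec.map (CommRingCat.ofHom ψ)) := IsClosedImmersion.spec_of_surjective _ hψ
    have hsur : Surjective (Spec.map (CommRingCat.ofHom ψ)) := by
      constructor
      intro x
      refine ⟨IsLocalRing.closedPoint B, ?_⟩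
      have hloc : IsLocalHom ψ := hψ.isLocalHom ψ
      have h2 : ∀ y : PrimeSpectrum B', y = IsLocalRing.closedPoint B' := fun y => Subsingleton.elim _ _
      exact (h2 _).trans (h2 x).symm
    have hZe : Etale ((Z i).ι ≫ (𝒰.j i).left) := inferInstance
    obtain ⟨l, ⟨hl1, hl2⟩, -⟩ := Groth.Agent.S5075.result ((Z i).ι ≫ (𝒰.j i).left) (RelGrp.cm φ η).left
      (Spec.map (CommRingCat.ofHom ψ)) α (by
        have h2 := congrArg (fun k => k.left) h1
        refine Eq.trans ?_ h2.symm
        change _ = (α ≫ (Z i).ι) ≫ _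
        rw [Category.assoc])
    refine ⟨l, hl2, ?_⟩
    rw [reassoc_of% (hr i), ← Category.assoc (Z i).ι, ← Category.assoc l, hl1]
    exact Over.w (RelGrp.cm φ η)
  -- descent along the covering
  let p : (∐ fun i => (Z i : Scheme.{u})) ⟶ (W : Scheme.{u}) := Sigma.desc r
  have hι : ∀ i, Sigma.ι (fun i => (Z i : Scheme.{u})) i ≫ p = r i := fun i => Sigma.ι_desc _ _
  have hs : Surjective p := by
    constructor
    intro y
    obtain ⟨i, v, hv⟩ := 𝒰.covers (W.ι y)
    have hvZ : v ∈ Z i := by
      change (𝒰.j i).left v ∈ W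
      rw [hv]
      exact y.2
    refine ⟨Sigma.ι (fun i => (Z i : Scheme.{u})) i ⟨v, hvZ⟩, ?_⟩
    rw [← Scheme.Hom.comp_apply, hι]
    apply W.ι.isOpenEmbedding.injective
    rw [← Scheme.Hom.comp_apply, hr, Scheme.Hom.comp_apply]
    exact hv
  have he : Etale p := by
    rw [IsZariskiLocalAtSource.iff_of_openCover (P := (@Etale : MorphismProperty Scheme.{u})) (sigmaOpenCover _)]
    intro i
    change Etale (Sigma.ι (fun i => (Z i : Scheme.{u})) i ≫ p)
    rw [hι i]
    exact hre i
  have hl : Smooth (p ≫ W.ι ≫ P.hom) := by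
    rw [IsZariskiLocalAtSource.iff_of_openCover (P := (@Smooth : MorphismProperty Scheme.{u})) (sigmaOpenCover _)]
    intro i
    change Smooth (Sigma.ι (fun i => (Z i : Scheme.{u})) i ≫ p ≫ W.ι ≫ P.hom)
    rw [← Category.assoc, hι i]
    exact hZ i
  exact Groth.Agent.S0115.result p (W.ι ≫ P.hom)

end K721.PicSmoothH2
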