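import Groth.Agent.Biell.K440.IdealVanish
import Groth.Agent.Ega3B.AcycNbhd
import Groth.Agent.Ega3B.PullTensor

/-!
# Vanishing of the cohomology of the ideal generated by a simple ideal of the base

`f : X ⟶ T` quasi-compact, separated and flat, `T` affine, `J` a principal ideal of `Γ(T, O)` generated by an element
whose annihilator is the kernel of a surjection `Γ(T, O) → K`; if `H^{n+1}(X_K, O) = 0` then `H^{n+1}(X, J O_X) = 0`.
-/

set_option autoImplicit false
universe u
open CategoryTheory CategoryTheory.Limits AlgebraicGeometry Opposite TopologicalSpace TensorProduct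

namespace K721.IdealVan1

open K440.IdealVanish
open Groth.Agent.Ega3B Groth.Agent
open CubeData CombRes Cube CechBC CechH0 AcyclicAlg AcyclicBC Groth.Agent.VarietyB.FlatH0
  Groth.Agent.VarietyB.BCAlg
open Groth.Agent.Fdesc

section Alg

/-- A principal ideal is a quotient of the ring by the annihilator of the generator. -/
noncomputable def equivOfAnn {A K : Type u} [CommRing A] [CommRing K] [Algebra A K]
    (hs : Function.Surjective (algebraMap A K)) (e : A)
    (he : ∀ a : A, algebraMap A K a = 0 ↔ a * e = 0) : K ≃ₗ[A] (Ideal.span {e} : Ideal A) := by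
  let g : A →ₗ[A] (Ideal.span {e} : Ideal A) :=
    LinearMap.toSpanSingleton A _ ⟨e, Ideal.mem_span_singleton_self e⟩
  have hg : Function.Surjective g := by
    rintro ⟨x, hx⟩
    obtain ⟨a, rfl⟩ := Ideal.mem_span_singleton'.mp hx
    exact ⟨a, Subtype.ext rfl⟩
  let f : A →ₗ[A] K := Algebra.linearMap A K
  have hf : Function.Surjective f := hs
  have hk : LinearMap.ker f = LinearMap.ker g := by
    ext a
    rw [LinearMap.mem_ker, LinearMap.mem_ker]
    refine (he a).trans ?_
    change _ ↔ a • (⟨e, _⟩ : (Ideal.span {e} : Ideal A)) = 0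
    rw [Subtype.ext_iff]
    rfl
  exact (f.quotKerEquivOfSurjective hf).symm ≪≫ₗ Submodule.quotEquivOfEq _ _ hk ≪≫ₗ
    g.quotKerEquivOfSurjective hg

theorem exact_lTensor_congr {A : Type u} [CommRing A] {K J M N P : Type u} [AddCommGroup K] [Module A K]
    [AddCommGroup J] [Module A J] [AddCommGroup M] [Module A M] [AddCommGroup N] [Module A N]
    [AddCommGroup P] [Module A P] (e : K ≃ₗ[A] J) (d : M →ₗ[A] N) (d' : N →ₗ[A] P)
    (h : Function.Exact (d.lTensor K) (d'.lTensor K)) : Function.Exact (d.lTensor J) (d'.lTensor J) := by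
  refine (Function.Exact.iff_of_ladder_linearEquiv (e₁ := e.rTensor M) (e₂ := e.rTensor N) (e₃ := e.rTensor P)
    ?_ ?_).mpr h
  · ext x y
    simp
  · ext x y
    simp

theorem exact_lTensor_of_subsingleton {A : Type u} [CommRing A] {J M N P : Type u} [AddCommGroup J]
    [Module A J] [AddCommGroup M] [Module A M] [AddCommGroup N] [Module A N]
    [AddCommGroup P] [Module A P] [Subsingleton J] (d : M →ₗ[A] N) (d' : N →ₗ[A] P) :
    Function.Exact (d.lTensor J) (d'.lTensor J) := by
  intro x
  have : Subsingleton (J ⊗[A] N) := inferInstance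
  exact ⟨fun _ => ⟨0, Subsingleton.elim _ _⟩, fun _ => by rw [Subsingleton.elim x 0, map_zero]⟩

end Alg

attribute [local instance 3000] LocExact.hasSheafify

theorem subsingleton_HH {T X : Scheme.{u}} [IsAffine T] (f : X ⟶ T) [QuasiCompact f] [IsSeparated f]
    [Flat f] (n : ℕ) (J : Ideal Γ(T, ⊤)) (I : X.IdealSheafData)
    (hI : ∀ U : X.affineOpens, I.ideal U = J.map (f.appLE ⊤ U.1 le_top).hom)
    (hex : ∀ (N : ℕ) (U : Fin N → X.Opens) (_ : ⨆ i, U i = ⊤)
      (_ : ∀ s : Finset (Fin N), s.Nonempty → IsAffineOpen (s.inf U)),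
      letI := fun n => modC f (Coh.structureModule X) U n
      Function.Exact ((d f (Coh.structureModule X) U n).lTensor J)
        ((d f (Coh.structureModule X) U (n + 1)).lTensor J)) :
    Subsingleton (Coh.HH X (ClSub.idealMod I) (n + 1)) := by
  have h1 : CompactSpace X := QuasiCompact.compactSpace_of_compactSpace f
  have h2 : X.IsSeparated := by
    have : IsSeparated (terminal.from X) := by
      have : terminal.from X = f ≫ terminal.from _ := terminal.hom_ext _ _
      rw [this]
      infer_instance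
    exact ⟨this⟩
  have hF : Coh.IsQCoh (Coh.structureModule X) := StructMod.isQCoh_structureModule X
  have hG : Coh.IsQCoh (ClSub.idealMod I) := Groth.Agent.PerfA.IdealModule.isQCoh_idealMod I
  obtain ⟨N, U, hcov, hU⟩ := exists_cover X
  let i1 := fun n => modC f (Coh.structureModule X) U n
  let i2 := fun V => modV f (Coh.structureModule X) V
  have hflat : ∀ n, Module.Flat Γ(T, ⊤) (C (Coh.structureModule X) U n) := fun n =>
    flat_C U _ hF (EtAffine.isFlatOver_structureModule f) hU n
  let κ : ∀ n, C (ClSub.idealMod I) U n →+ C (Coh.structureModule X) U n := fun n =>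
    (cech (X := X.toPresheafedSpace.carrier) U).Kmap n ((SheafOfModules.toSheaf X.ringCatSheaf).map (ClSub.idealModι I)).hom
  have hκ : ∀ n x b, κ n x b = Groth.Agent.PerfA.IdealModule.val I (x b) := fun n x b => rfl
  have hinj : ∀ n, Function.Injective (κ n) := by
    intro n x y hxy
    funext b
    exact Groth.Agent.PerfA.IdealModule.val_injective I _ (congrFun hxy b)
  have hmem : ∀ (V : X.affineOpens) (a : Γ(X, V.1)), a ∈ I.ideal V ↔
      (show Γ(Coh.structureModule X, V.1) from a) ∈ J • (⊤ : Submodule Γ(T, ⊤) Γ(Coh.structureModule X, V.1)) := by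
    intro V a
    rw [hI V]
    exact mem_map_iff J (f.appLE ⊤ V.1 le_top).hom a
  refine subsingleton_of_exact _ U hG hcov hU n (fun x hx => ?_)
  let Uaff : ∀ n (b : (cech (X := X.toPresheafedSpace.carrier) U).B n), X.affineOpens := fun n b =>
    ⟨_, hU b.1 b.2.1⟩
  have h3 : κ (n + 1) x ∈ J • (⊤ : Submodule Γ(T, ⊤) (C (Coh.structureModule X) U (n + 1))) := by
    refine (mem_smul_top_pi J (fun b : (cech (X := X.toPresheafedSpace.carrier) U).B (n + 1) =>
      Γ(Coh.structureModule X, (cech (X := X.toPresheafedSpace.carrier) U).W (n + 1) b))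
      (κ (n + 1) x)).mpr fun b => ?_
    exact (hmem (Uaff (n + 1) b) _).mp (Groth.Agent.PerfA.IdealModule.val_mem I (Uaff (n + 1) b) (x b))
  have h4 : d f (Coh.structureModule X) U (n + 1) (κ (n + 1) x) = 0 := by
    refine ((cech (X := X.toPresheafedSpace.carrier) U).δ_naturality (n + 1) _ x).trans ?_
    rw [hx, map_zero]
  obtain ⟨y', hy', hy⟩ := exists_mem J (d f (Coh.structureModule X) U n) (d f (Coh.structureModule X) U (n + 1))
    (hex N U hcov hU) _ h3 h4
  obtain ⟨y, rfl⟩ : ∃ y, κ n y = y' := by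
    have h5 := (mem_smul_top_pi J (fun b : (cech (X := X.toPresheafedSpace.carrier) U).B n =>
      Γ(Coh.structureModule X, (cech (X := X.toPresheafedSpace.carrier) U).W n b)) y').mp hy'
    choose y hy using fun b : (cech (X := X.toPresheafedSpace.carrier) U).B n =>
      Groth.Agent.PerfA.IdealModule.exists_val_eq I (Uaff n b) ((hmem (Uaff n b) (y' b)).mpr (h5 b))
    exact ⟨y, funext hy⟩
  refine ⟨y, hinj (n + 1) ?_⟩
  rw [← hy]
  exact ((cech (X := X.toPresheafedSpace.carrier) U).δ_naturality n _ y).symm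

/-- The ideal generated by an element `e` of the base whose annihilator is the kernel of `Γ(T) → Γ(Z)`. -/
theorem subsingleton_HH_of_point {T X Z XZ : Scheme.{u}} [IsAffine T] [IsAffine Z] (f : X ⟶ T) [QuasiCompact f]
    [IsSeparated f] [Flat f] {z : Z ⟶ T} {g : XZ ⟶ X} {q : XZ ⟶ Z} (H : IsPullback g q f z)
    (hs : Function.Surjective z.appTop) (e : Γ(T, ⊤)) (he : ∀ a : Γ(T, ⊤), z.appTop a = 0 ↔ a * e = 0)
    (n : ℕ) (h : Subsingleton (Coh.HH XZ (Coh.structureModule XZ) (n + 1))) (I : X.IdealSheafData)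
    (hI : ∀ U : X.affineOpens, I.ideal U = (Ideal.span {e} : Ideal Γ(T, ⊤)).map (f.appLE ⊤ U.1 le_top).hom) :
    Subsingleton (Coh.HH X (ClSub.idealMod I) (n + 1)) := by
  refine subsingleton_HH f n (Ideal.span {e}) I hI fun N U hcov hU => ?_
  let i1 := fun n => modC f (Coh.structureModule X) U n
  let i2 := algOver z (US := ⊤) (UT := ⊤) le_top
  have h1 : Function.Exact ((d f (Coh.structureModule X) U n).lTensor Γ(Z, ⊤))
      ((d f (Coh.structureModule X) U (n + 1)).lTensor Γ(Z, ⊤)) :=
    (AcycNbhd.exact_iff H _ (StructMod.isQCoh_structureModule X) U hcov hU n).mpr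
      (AcycNbhd.subsingleton_HH_of_iso (Groth.Agent.Ega3B.PullTensor.nonempty_pullUnitIso g).some.symm (n + 1) h)
  have ha : ∀ a : Γ(T, ⊤), algebraMap Γ(T, ⊤) Γ(Z, ⊤) a = z.appTop a := by
    intro a
    change (z.appLE ⊤ ⊤ le_top) a = _
    rw [AcycNbhd.appLE_top]
  refine exact_lTensor_congr (equivOfAnn (K := Γ(Z, ⊤)) ?_ e ?_) _ _ h1
  · intro y
    obtain ⟨a, ha'⟩ := hs y
    exact ⟨a, (ha a).trans ha'⟩
  · intro a
    rw [ha]
    exact he a

theorem subsingleton_HH_of_subsingleton {T X : Scheme.{u}} [IsAffine T] (f : X ⟶ T) [QuasiCompact f]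
    [IsSeparated f] [Flat f] (n : ℕ) (J : Ideal Γ(T, ⊤)) [Subsingleton J] (I : X.IdealSheafData)
    (hI : ∀ U : X.affineOpens, I.ideal U = J.map (f.appLE ⊤ U.1 le_top).hom) :
    Subsingleton (Coh.HH X (ClSub.idealMod I) (n + 1)) := by
  refine subsingleton_HH f n J I hI fun N U hcov hU => ?_
  let i1 := fun n => modC f (Coh.structureModule X) U n
  exact exact_lTensor_of_subsingleton _ _

end K721.IdealVan1
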